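import Groth.Prelude.Def_FlatCA
import Mathlib.RingTheory.Localization.AtPrime.Basic
import Mathlib.Algebra.Module.LocalizedModule.Basic
import Mathlib.RingTheory.LocalRing.ResidueField.Fiber
import Mathlib.RingTheory.Flat.Basic
import Mathlib.RingTheory.Flat.Stability

/-! Fibre modules `N ⊗ κ(p)` and their associated primes. -/

set_option autoImplicit false
universe u

open TensorProduct

namespace FibAssLib

variable {R S : Type u} [CommRing R] [CommRing S] [Algebra R S] {N : Type u} [AddCommGroup N] [Module S N]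
  [Module R N] [IsScalarTower R S N] (p : Ideal R) [p.IsPrime]

variable (S) in
/-- The map from `S` to the fibre ring. -/
noncomputable abbrev incl : S →+* p.Fiber S :=
  (Algebra.TensorProduct.includeRight (R := R) (A := p.ResidueField) (B := S)).toRingHom

theorem smul_eq (s : S) (x : FlatCA.fiberMod p S N) : s • x = incl S p s • x := by
  letI : Algebra S (p.Fiber S) := Algebra.TensorProduct.rightAlgebra
  exact (algebraMap_smul (p.Fiber S) s (M := (p.Fiber S) ⊗[S] N) x).symm

theorem isUnit_incl {t : R} (ht : t ∉ p) : IsUnit (incl S p (algebraMap R S t)) := by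
  have h : incl S p (algebraMap R S t) = algebraMap R (p.Fiber S) t :=
    AlgHom.commutes (Algebra.TensorProduct.includeRight (R := R) (A := p.ResidueField) (B := S)) t
  rw [h, IsScalarTower.algebraMap_apply R p.ResidueField (p.Fiber S)]
  exact ((isUnit_iff_ne_zero).2 (mt Ideal.algebraMap_residueField_eq_zero.1 ht)).map _

theorem eq_zero_of_smul {t : R} (ht : t ∉ p) {x : FlatCA.fiberMod p S N} (hx : algebraMap R S t • x = 0) : x = 0 := by
  rw [smul_eq] at hx
  exact (isUnit_incl p ht).smul_eq_zero.1 hx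

theorem exists_incl_eq (f : p.Fiber S) : ∃ t ∉ p, ∃ s : S, incl S p (algebraMap R S t) * f = incl S p s := by
  obtain ⟨t, ht, s, hs⟩ := Ideal.Fiber.exists_smul_eq_one_tmul p f
  refine ⟨t, ht, s, ?_⟩
  rw [show incl S p (algebraMap R S t) = algebraMap R (p.Fiber S) t from
    AlgHom.commutes (Algebra.TensorProduct.includeRight (R := R) (A := p.ResidueField) (B := S)) t, ← Algebra.smul_def, hs]
  rfl

theorem exists_smul_eq_toFiber (x : FlatCA.fiberMod p S N) :
    ∃ t ∉ p, ∃ n : N, algebraMap R S t • x = FlatCA.toFiberMod p S N n := by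
  letI : Algebra S (p.Fiber S) := Algebra.TensorProduct.rightAlgebra
  suffices h : ∀ y : (p.Fiber S) ⊗[S] N, ∃ t ∉ p, ∃ n : N, algebraMap R S t • y = (1 : p.Fiber S) ⊗ₜ[S] n from h x
  intro y
  induction y using TensorProduct.induction_on with
  | zero => exact ⟨1, p.ne_top_iff_one.1 (Ideal.IsPrime.ne_top inferInstance), 0, by rw [smul_zero, TensorProduct.tmul_zero]⟩
  | tmul f n =>
    obtain ⟨t, ht, s, hs⟩ := exists_incl_eq p f
    refine ⟨t, ht, s • n, ?_⟩
    rw [TensorProduct.smul_tmul', ← TensorProduct.smul_tmul]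
    refine congrArg (· ⊗ₜ[S] n) ?_
    rw [Algebra.smul_def, Algebra.smul_def, mul_one]
    exact hs
  | add a b ha hb =>
    obtain ⟨t, ht, n, hn⟩ := ha
    obtain ⟨t', ht', n', hn'⟩ := hb
    refine ⟨t * t', fun h => ((Ideal.IsPrime.mem_or_mem inferInstance h).elim ht ht'),
      algebraMap R S t' • n + algebraMap R S t • n', ?_⟩
    rw [TensorProduct.tmul_add, TensorProduct.tmul_smul, TensorProduct.tmul_smul, ← hn, ← hn', map_mul, smul_add,
      ← mul_smul, ← mul_smul, mul_comm (algebraMap R S t') _]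

theorem toFiberMod_map_eq_zero {n : N} (hn : n ∈ (p.map (algebraMap R S)) • (⊤ : Submodule S N)) :
    FlatCA.toFiberMod p S N n = 0 := by
  refine (Submodule.smul_le.2 (fun a ha m _ => LinearMap.mem_ker.2 ?_) :
    (p.map (algebraMap R S)) • (⊤ : Submodule S N) ≤ LinearMap.ker (FlatCA.toFiberMod p S N)) hn
  rw [map_smul, smul_eq]
  have h1 : p.map (algebraMap R S) ≤ RingHom.ker (incl S p) := by
    refine Ideal.map_le_iff_le_comap.2 fun r hr => ?_
    show (Algebra.TensorProduct.includeRight (R := R) (A := p.ResidueField) (B := S)) (algebraMap R S r) = 0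
    rw [AlgHom.commutes, Algebra.TensorProduct.algebraMap_apply, Ideal.algebraMap_residueField_eq_zero.2 hr, TensorProduct.zero_tmul]
  rw [show incl S p a = 0 from h1 ha]
  exact zero_smul _ _

variable (N) in
/-- `N / p N`. -/
abbrev quot : Type u := N ⧸ (p.map (algebraMap R S)) • (⊤ : Submodule S N)

theorem smul_quot_eq_zero {r : R} (hr : r ∈ p) (x : quot (S := S) N p) : r • x = 0 := by
  obtain ⟨n, rfl⟩ := Submodule.mkQ_surjective _ x
  rw [← algebraMap_smul S r, ← map_smul]
  exact (Submodule.Quotient.mk_eq_zero _).2 (Submodule.smul_mem_smul (Ideal.mem_map_of_mem _ hr) trivial)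

/-- The map `N / p N → N ⊗ κ(p)`. -/
noncomputable def β : quot (S := S) N p →ₗ[S] FlatCA.fiberMod p S N :=
  Submodule.liftQ _ (FlatCA.toFiberMod p S N) fun _ hn => toFiberMod_map_eq_zero p hn

theorem exists_smul_eq_β (x : FlatCA.fiberMod p S N) :
    ∃ t ∉ p, ∃ z : quot (S := S) N p, algebraMap R S t • x = β p z := by
  obtain ⟨t, ht, n, hn⟩ := exists_smul_eq_toFiber p x
  exact ⟨t, ht, Submodule.Quotient.mk n, hn⟩

theorem exists_smul_eq_zero_of_β {z : quot (S := S) N p} (hz : β p z = 0) : ∃ t ∉ p, t • z = 0 := by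
  letI : Algebra S (p.Fiber S) := Algebra.TensorProduct.rightAlgebra
  let L := LocalizedModule p.primeCompl (quot (S := S) N p)
  let ℓ := LocalizedModule.mkLinearMap p.primeCompl (quot (S := S) N p)
  have hkill : ∀ (a : Localization.AtPrime p) (_ : a ∈ IsLocalRing.maximalIdeal (Localization.AtPrime p)) (w : L), a • w = 0 := by
    intro a ha w
    rw [← Localization.AtPrime.map_eq_maximalIdeal] at ha
    refine (Ideal.span_le (I := (Module.annihilator (Localization.AtPrime p) L))).2 ?_ ha |> Module.mem_annihilator.1 <| w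
    rintro _ ⟨r, hr, rfl⟩
    refine Module.mem_annihilator.2 fun v => ?_
    obtain ⟨⟨x, t⟩, rfl⟩ := IsLocalizedModule.mk'_surjective p.primeCompl ℓ v
    rw [algebraMap_smul, Function.uncurry_apply_pair, ← IsLocalizedModule.mk'_smul, smul_quot_eq_zero p hr,
      IsLocalizedModule.mk'_zero]
  let φ : Localization.AtPrime p →ₗ[R] (L →ₗ[R] L) :=
    LinearMap.mk₂ R (fun (a : Localization.AtPrime p) (w : L) => a • w) (fun a a' w => add_smul a a' w)
      (fun c a w => smul_assoc c a w) (fun a w w' => smul_add a w w') (fun c a w => smul_comm a c w)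
  let res : Localization.AtPrime p →ₗ[R] p.ResidueField :=
    (IsScalarTower.toAlgHom R (Localization.AtPrime p) p.ResidueField).toLinearMap
  have hres : Function.Surjective res := IsLocalRing.residue_surjective
  have hwd : ∀ a b, res a = res b → φ a = φ b := fun a b hab => LinearMap.ext fun w => by
    have h1 := hkill (a - b) ((IsLocalRing.residue_eq_zero_iff _).1 ((map_sub res a b).trans (sub_eq_zero.2 hab))) w
    have h2 : a • w = b • w := by rw [← sub_add_cancel a b, add_smul, h1, zero_add]
    exact h2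
  have hsi : ∀ c, res (Function.surjInv hres c) = c := Function.surjInv_eq hres
  let act : p.ResidueField →ₗ[R] (L →ₗ[R] L) :=
    { toFun := fun c => φ (Function.surjInv hres c)
      map_add' := fun c c' => by rw [← map_add]; exact hwd _ _ (by simp only [map_add, hsi])
      map_smul' := fun r c => by rw [RingHom.id_apply, ← map_smul]; exact hwd _ _ (by simp only [map_smul, hsi]) }
  have hact : ∀ a, act (res a) = φ a := fun a => hwd _ _ (hsi _)
  let G : p.Fiber S →ₗ[R] (N →ₗ[R] L) := TensorProduct.lift (LinearMap.mk₂ R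
    (fun c s => act c ∘ₗ ℓ ∘ₗ ((Submodule.mkQ ((p.map (algebraMap R S)) • (⊤ : Submodule S N))) ∘ₗ (s • LinearMap.id : N →ₗ[S] N)).restrictScalars R)
    (fun c c' s => LinearMap.ext fun n => by simp)
    (fun r c s => LinearMap.ext fun n => by simp)
    (fun c s s' => LinearMap.ext fun n => by simp [add_smul])
    (fun r c s => LinearMap.ext fun n => by simp [LinearMap.map_smul_of_tower]))
  have hbal : ∀ (s : S) (f : p.Fiber S) (n : N), G (s • f) n = G f (s • n) := by
    intro s f n
    induction f using TensorProduct.induction_on with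
    | zero => simp
    | add x y hx hy => simp only [smul_add, map_add, LinearMap.add_apply, hx, hy]
    | tmul c x =>
      rw [show s • (c ⊗ₜ[R] x : p.Fiber S) = c ⊗ₜ[R] (s * x) by
        rw [Algebra.smul_def]
        show (1 : p.ResidueField) ⊗ₜ[R] s * (c ⊗ₜ[R] x) = _
        rw [Algebra.TensorProduct.tmul_mul_tmul, one_mul]]
      simp [G, mul_smul, smul_comm s x n]
  let F : FlatCA.fiberMod p S N →+ L := TensorProduct.liftAddHom
    { toFun := fun f => (G f).toAddMonoidHom, map_zero' := by ext; simp, map_add' := fun a b => by ext; simp }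
    (fun s f n => hbal s f n)
  obtain ⟨n, rfl⟩ := Submodule.mkQ_surjective _ z
  have h0 : F (FlatCA.toFiberMod p S N n) = 0 := by
    rw [show FlatCA.toFiberMod p S N n = 0 from hz, map_zero]
  replace h0 : ℓ (Submodule.mkQ ((p.map (algebraMap R S)) • (⊤ : Submodule S N)) n) = 0 := by
    rw [← h0]
    show _ = G (1 : p.Fiber S) n
    rw [Algebra.TensorProduct.one_def]
    simp only [G, TensorProduct.lift.tmul, LinearMap.mk₂_apply, LinearMap.comp_apply, LinearMap.coe_restrictScalars,
      LinearMap.smul_apply, LinearMap.id_apply, one_smul]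
    rw [show (1 : p.ResidueField) = res 1 from (map_one (algebraMap (Localization.AtPrime p) p.ResidueField)).symm, hact]
    exact (one_smul (Localization.AtPrime p) _).symm
  obtain ⟨t, ht⟩ := (IsLocalizedModule.eq_zero_iff p.primeCompl ℓ).1 h0
  exact ⟨t, t.2, ht⟩

/-- A prime of the fibre ring associated to the fibre module gives one of `S`. -/
theorem comap_mem_ass {Q : Ideal (p.Fiber S)} (hQ : Q ∈ FlatCA.ass (p.Fiber S) (FlatCA.fiberMod p S N)) :
    Q.comap (incl S p) ∈ FlatCA.ass S (FlatCA.fiberMod p S N) := by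
  obtain ⟨hQp, x, hx⟩ := hQ
  haveI := hQp
  refine ⟨Ideal.IsPrime.comap _, x, ?_⟩
  ext s
  rw [Ideal.mem_comap, hx, Submodule.mem_annihilator_span_singleton, Submodule.mem_annihilator_span_singleton, smul_eq]

theorem exists_of_mem_ass {q : Ideal S} (h : q ∈ FlatCA.ass S (FlatCA.fiberMod p S N)) :
    ∃ Q ∈ FlatCA.ass (p.Fiber S) (FlatCA.fiberMod p S N), Q.comap (incl S p) = q := by
  obtain ⟨hq, x, hx⟩ := h
  let Q : Ideal (p.Fiber S) := (Submodule.span (p.Fiber S) {x}).annihilator
  have hc : Q.comap (incl S p) = q := by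
    ext s
    rw [Ideal.mem_comap, hx, Submodule.mem_annihilator_span_singleton, Submodule.mem_annihilator_span_singleton, smul_eq]
  refine ⟨Q, ⟨⟨fun h => hq.ne_top ?_, fun {f g} hfg => ?_⟩, x, rfl⟩, hc⟩
  · rw [← hc, h]; rfl
  · obtain ⟨t, ht, s, hs⟩ := exists_incl_eq p f
    obtain ⟨t', ht', s', hs'⟩ := exists_incl_eq p g
    have h1 : incl S p (s * s') ∈ Q := by
      rw [map_mul, ← hs, ← hs', mul_mul_mul_comm]
      exact Q.mul_mem_left _ hfg
    have h2 : s * s' ∈ q := hc ▸ h1
    have key : ∀ {t : R} {s : S} {f : p.Fiber S}, t ∉ p → incl S p (algebraMap R S t) * f = incl S p s → s ∈ q → f ∈ Q :=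
      fun {t s f} ht he hsq => (Ideal.unit_mul_mem_iff_mem Q (isUnit_incl p ht)).1 (he ▸ (hc.symm ▸ hsq : s ∈ Q.comap (incl S p)))
    exact (hq.mem_or_mem h2).imp (key ht hs) (key ht' hs')

/-- Every associated prime of the fibre module is the annihilator of an element coming from `N / p N`. -/
theorem exists_β_of_mem_ass {q : Ideal S} (h : q ∈ FlatCA.ass S (FlatCA.fiberMod p S N)) :
    ∃ z : quot (S := S) N p, q = (Submodule.span S {β p z}).annihilator := by
  obtain ⟨-, x, hx⟩ := h
  obtain ⟨t, ht, z, hz⟩ := exists_smul_eq_β p x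
  refine ⟨z, ?_⟩
  ext s
  rw [hx, Submodule.mem_annihilator_span_singleton, Submodule.mem_annihilator_span_singleton, ← hz, smul_comm]
  exact ⟨fun h => by rw [h, smul_zero], fun h => eq_zero_of_smul p ht h⟩

theorem comap_eq_of_mem_ass {q : Ideal S} (h : q ∈ FlatCA.ass S (FlatCA.fiberMod p S N)) :
    q.comap (algebraMap R S) = p := by
  obtain ⟨hq, x, hx⟩ := h
  have hx0 : x ≠ 0 := by
    rintro rfl
    exact hq.ne_top (by rw [hx, Submodule.span_zero_singleton, Submodule.annihilator_bot])
  ext r
  rw [Ideal.mem_comap, hx, Submodule.mem_annihilator_span_singleton]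
  refine ⟨fun h => by_contra fun hr => hx0 (eq_zero_of_smul p hr h), fun hr => ?_⟩
  obtain ⟨t, ht, z, hz⟩ := exists_smul_eq_β p x
  refine eq_zero_of_smul p ht ?_
  rw [smul_comm, hz, ← map_smul, algebraMap_smul, smul_quot_eq_zero p hr, map_zero]

end FibAssLib
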