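import Groth.Agent.FibAssLib.Basic
import Mathlib.LinearAlgebra.TensorProduct.RightExactness

/-! Fibre modules of flat modules. -/

set_option autoImplicit false
universe u

open TensorProduct

namespace FibAssLib

variable {R S : Type u} [CommRing R] [CommRing S] [Algebra R S] {N : Type u} [AddCommGroup N] [Module S N]
  [Module R N] [IsScalarTower R S N] (p : Ideal R) [p.IsPrime]

theorem mem_ass_of_injective {A B : Type u} [AddCommGroup A] [Module S A] [AddCommGroup B] [Module S B]
    (f : A →ₗ[S] B) (hf : Function.Injective f) {q : Ideal S} (h : q ∈ FlatCA.ass S A) : q ∈ FlatCA.ass S B := by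
  obtain ⟨hq, x, hx⟩ := h
  refine ⟨hq, f x, ?_⟩
  ext s
  rw [hx, Submodule.mem_annihilator_span_singleton, Submodule.mem_annihilator_span_singleton, ← map_smul,
    map_eq_zero_iff f hf]

theorem mem_ass_of_exact {A B C : Type u} [AddCommGroup A] [Module S A] [AddCommGroup B] [Module S B]
    [AddCommGroup C] [Module S C] (f : A →ₗ[S] B) (g : B →ₗ[S] C) (hf : Function.Injective f)
    (he : Function.Exact f g) {q : Ideal S} (h : q ∈ FlatCA.ass S B) :
    q ∈ FlatCA.ass S A ∨ q ∈ FlatCA.ass S C := by
  obtain ⟨hq, x, hx⟩ := h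
  by_cases hc : ∀ s : S, g (s • x) = 0 → s ∈ q
  · refine Or.inr ⟨hq, g x, le_antisymm (fun s hs => ?_) fun s hs => ?_⟩
    · rw [hx, Submodule.mem_annihilator_span_singleton] at hs
      rw [Submodule.mem_annihilator_span_singleton, ← map_smul, hs, map_zero]
    · rw [Submodule.mem_annihilator_span_singleton, ← map_smul] at hs
      exact hc s hs
  · push Not at hc
    obtain ⟨s, hs, hsq⟩ := hc
    obtain ⟨a, ha⟩ := (he _).1 hs
    refine Or.inl ⟨hq, a, le_antisymm (fun r hr => ?_) fun r hr => ?_⟩
    · rw [hx, Submodule.mem_annihilator_span_singleton] at hr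
      rw [Submodule.mem_annihilator_span_singleton, ← map_eq_zero_iff f hf, map_smul, ha, smul_comm, hr, smul_zero]
    · rw [Submodule.mem_annihilator_span_singleton, ← map_eq_zero_iff f hf, map_smul, ha, ← mul_smul] at hr
      have : r * s ∈ q := by rw [hx, Submodule.mem_annihilator_span_singleton]; exact hr
      exact (hq.mem_or_mem this).resolve_right hsq

variable (S N) in
/-- `N / p N → N ⊗ R / p`. -/
noncomputable def toTensor : quot (S := S) N p →ₗ[S] N ⊗[R] (R ⧸ p) :=
  Submodule.liftQ _ ((TensorProduct.AlgebraTensorModule.mk R S N (R ⧸ p)).flip 1) (by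
    refine Submodule.smul_le.2 fun a ha m _ => LinearMap.mem_ker.2 ?_
    refine Submodule.span_induction (hx := ha) ?_ ?_ ?_ ?_
    · rintro _ ⟨r, hr, rfl⟩
      show (algebraMap R S r • m) ⊗ₜ[R] (1 : R ⧸ p) = 0
      rw [algebraMap_smul, TensorProduct.smul_tmul, Algebra.smul_def, mul_one, Ideal.Quotient.algebraMap_eq,
        Ideal.Quotient.eq_zero_iff_mem.2 hr, TensorProduct.tmul_zero]
    · rw [zero_smul, map_zero]
    · intro a b _ _ h1 h2
      rw [add_smul, map_add, h1, h2, add_zero]
    · intro c a _ h1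
      rw [smul_assoc, map_smul, h1, smul_zero])

theorem toTensor_bijective : Function.Bijective (toTensor S N p) := by
  let Q := quot (S := S) N p
  let one : R →ₗ[R] (N →ₗ[R] Q) := LinearMap.mk₂ R
    (fun (r : R) (n : N) => r • (Submodule.Quotient.mk n : Q)) (fun a b n => add_smul a b _)
    (fun c a n => by rw [smul_assoc]) (fun a n n' => by rw [Submodule.Quotient.mk_add, smul_add])
    (fun c a n => by rw [Submodule.Quotient.mk_smul, smul_comm])
  let l : (R ⧸ p) →ₗ[R] (N →ₗ[R] Q) := Submodule.liftQ p one (fun r hr => LinearMap.ext fun n => smul_quot_eq_zero p hr _)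
  let back : N ⊗[R] (R ⧸ p) →ₗ[R] Q := TensorProduct.lift l.flip
  refine ⟨Function.LeftInverse.injective (g := back) fun z => ?_, fun x => ?_⟩
  · obtain ⟨n, rfl⟩ := Submodule.mkQ_surjective _ z
    show (1 : R) • (Submodule.Quotient.mk n : Q) = _
    rw [one_smul]
    rfl
  · induction x using TensorProduct.induction_on with
    | zero => exact ⟨0, map_zero _⟩
    | tmul n r =>
      obtain ⟨r, rfl⟩ := Ideal.Quotient.mk_surjective r
      refine ⟨Submodule.Quotient.mk (r • n), ?_⟩
      show (r • n) ⊗ₜ[R] (1 : R ⧸ p) = _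
      rw [TensorProduct.smul_tmul, Algebra.smul_def, mul_one]
      rfl
    | add a b ha hb =>
      obtain ⟨z, rfl⟩ := ha
      obtain ⟨z', rfl⟩ := hb
      exact ⟨z + z', map_add _ _ _⟩

variable (S N) in
/-- `N / p N ≃ N ⊗ R / p`. -/
noncomputable def equivTensor : quot (S := S) N p ≃ₗ[S] N ⊗[R] (R ⧸ p) :=
  LinearEquiv.ofBijective (toTensor S N p) (toTensor_bijective p)

theorem eq_zero_of_smul_quot [Module.Flat R N] {t : R} (ht : t ∉ p) {z : quot (S := S) N p} (hz : t • z = 0) : z = 0 := by
  have hinj : Function.Injective (t • (LinearMap.id : (R ⧸ p) →ₗ[R] R ⧸ p)) := by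
    refine (injective_iff_map_eq_zero _).2 fun x hx => ?_
    obtain ⟨r, rfl⟩ := Ideal.Quotient.mk_surjective x
    rw [LinearMap.smul_apply, LinearMap.id_apply, Algebra.smul_def, Ideal.Quotient.algebraMap_eq, ← map_mul,
      Ideal.Quotient.eq_zero_iff_mem] at hx
    exact Ideal.Quotient.eq_zero_iff_mem.2 ((Ideal.IsPrime.mem_or_mem inferInstance hx).resolve_left ht)
  have h := Module.Flat.lTensor_preserves_injective_linearMap (M := N) _ hinj
  rw [LinearMap.lTensor_smul, LinearMap.lTensor_id] at h
  refine (toTensor_bijective p).1 (h ?_)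
  rw [map_zero (toTensor S N p), map_zero, LinearMap.smul_apply, LinearMap.id_apply, ← LinearMap.map_smul_of_tower, hz, map_zero]

theorem β_injective [Module.Flat R N] : Function.Injective (β (S := S) (N := N) p) :=
  (injective_iff_map_eq_zero _).2 fun _ hz => by
    obtain ⟨t, ht, h⟩ := exists_smul_eq_zero_of_β p hz
    exact eq_zero_of_smul_quot p ht h

theorem ass_quot_eq [Module.Flat R N] :
    FlatCA.ass S (quot (S := S) N p) = FlatCA.ass S (FlatCA.fiberMod p S N) := by
  refine Set.ext fun q => ⟨mem_ass_of_injective (β p) (β_injective p), fun h => ?_⟩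
  obtain ⟨z, hz⟩ := exists_β_of_mem_ass p h
  refine ⟨h.1, z, ?_⟩
  ext s
  rw [hz, Submodule.mem_annihilator_span_singleton, Submodule.mem_annihilator_span_singleton, ← map_smul,
    map_eq_zero_iff _ (β_injective p)]

end FibAssLib
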